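import Cfsg.Agent.Lib.Spor.J3.Mat.Group
import Cfsg.Prelude.Def_KGroupFacts

/-!
The matrix group over the field with four elements is perfect: the scalar of order three dies in every abelian
image, by one relator and the squares of the four generating elements.
-/

set_option autoImplicit false

namespace CfsgLib.Spor.JThreeMult

open CfsgLib.Spor.TC CfsgLib.Spor.J3 CfsgLib.Spor.J3.Mat CfsgLib.Spor.Fi22.U6 Cfsg.Spor Matrix

theorem squares : ∀ x : Fin 4, progB.place x [(x : ℕ)] = some (outSq.getD x 0) ∧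
    progB.val (outSq.getD x 0) = (if x = 1 then Four.w else 1) • (1 : M9) := by decide +kernel

theorem word_twelve : progB.place 0 ((powWord [0, 1, 2, 1, 3] 5).tail) = some (outRels.getD 12 0) ∧
    progB.val (outRels.getD 12 0) = Four.w • (1 : M9) := by decide +kernel

theorem cover_perfect : Subgroup.center (threeJ3 Four Four.w) ≤ commutator (threeJ3 Four Four.w) := by
  have hbase : ∀ i, i < progA.base.length → ∃ g : threeJ3 Four Four.w, ((g : GL F9 Four) : M9) = progA.val i := by
    intro i hi
    have h43 : i < 43 := lt_of_lt_of_eq hi (by decide +kernel)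
    have hmem : progA.val i ∈ j3Gens Four Four.w := by
      rcases gens_spec ⟨i, h43⟩ with ⟨Z, e⟩ | ⟨Z, e⟩ | ⟨Z, e⟩ | ⟨Z, hZ, e⟩ | ⟨Z, hZ, e⟩ <;>
        rw [show progA.val i = _ from e]
      · exact Or.inl (Or.inl (Or.inl (Or.inl ⟨Z, rfl⟩)))
      · exact Or.inl (Or.inl (Or.inl (Or.inr ⟨Z, rfl⟩)))
      · exact Or.inl (Or.inl (Or.inr ⟨Z, rfl⟩))
      · exact Or.inl (Or.inr ⟨Z, hZ, rfl⟩)
      · exact Or.inr ⟨Z, hZ, rfl⟩
    exact ⟨⟨(gens_unit ⟨i, h43⟩).unit, Subgroup.subset_closure hmem⟩, rfl⟩
  let S : Submonoid M9 :=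
    { carrier := {M | ∃ g : threeJ3 Four Four.w, ((g : GL F9 Four) : M9) = M}
      one_mem' := ⟨1, by simp⟩
      mul_mem' := fun ⟨g, hg⟩ ⟨h, hh⟩ => ⟨g * h, by simp [hg, hh]⟩ }
  have hS := progA.mem (S := S) progA_good hbase
  have hu : ∀ x : Fin 5, ∃ g : threeJ3 Four Four.w, ((g : GL F9 Four) : M9) = progB.val x := fun x => by
    rw [(inv_eq x).2]
    exact hS _ (lt_of_lt_of_eq (inv_eq x).1 (by rw [show progA.base.length = 43 by decide +kernel]))
  choose u hu using hu
  let v : ℕ → threeJ3 Four Four.w := fun x => if h : x < 4 then u ⟨x, by omega⟩ else 1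
  have hv : ∀ x, x < 4 → ((v x : GL F9 Four) : M9) = progB.val x := fun x hx => by
    rw [show v x = u ⟨x, by omega⟩ from dif_pos hx, hu]
  have hword : ∀ (w : List ℕ), (∀ y ∈ w, y < 4) →
      (((w.map v).prod : threeJ3 Four Four.w) : GL F9 Four).val = (w.map progB.val).prod := by
    intro w
    induction w with
    | nil => intro _; simp
    | cons y w ih =>
      intro hw
      simp only [List.map_cons, List.prod_cons, Subgroup.coe_mul, Units.val_mul]
      rw [hv y (hw y List.mem_cons_self), ih fun z hz => hw z (List.mem_cons_of_mem _ hz)]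
  set z := u 4
  have hz : ((z : GL F9 Four) : M9) = Four.w • (1 : M9) := (hu 4).trans scalar_eq
  have hsq : ∀ x : Fin 4, v x * v x = if x = 1 then z else 1 := fun x => by
    refine Subtype.ext (Units.ext ?_)
    have h := hword [(x : ℕ), (x : ℕ)] (by intro y hy; simp at hy; omega)
    have h' := progB.place_spec progB_good (squares x).1
    simp only [List.map_cons, List.map_nil, List.prod_cons, List.prod_nil, mul_one] at h h'
    rw [h, h', (squares x).2]
    split_ifs with h1
    · exact hz.symm
    · simp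
  have hrel : ((powWord [0, 1, 2, 1, 3] 5).map v).prod = z := by
    refine Subtype.ext (Units.ext ?_)
    rw [hword _ (by decide), hz, ← word_twelve.2, ← progB.place_spec progB_good word_twelve.1]
    rfl
  have hz3 : z ^ 3 = 1 := by
    refine Subtype.ext (Units.ext ?_)
    rw [Subgroup.coe_pow, Units.val_pow_eq_pow_val, hz, smul_pow, one_pow]
    simp [show Four.w ^ 3 = 1 by decide]
  have hker : Subgroup.center (threeJ3 Four Four.w) ≤ Subgroup.zpowers z := by
    have hc := (main Four.card_four Four.w (by decide)).1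
    have hzc : z ∈ Subgroup.center (threeJ3 Four Four.w) := Subgroup.mem_center_iff.2 fun g => by
      refine Subtype.ext (Units.ext ?_)
      simp only [Subgroup.coe_mul, Units.val_mul, hz, Matrix.smul_mul, Matrix.mul_smul, one_mul, mul_one]
    have hord : orderOf z = 3 := orderOf_eq_prime hz3 fun h1 => by
      have := congrArg (fun g : threeJ3 Four Four.w => ((g : GL F9 Four) : M9) 0 0) h1
      simp [hz] at this
    exact (Subgroup.eq_of_le_of_card_ge (Subgroup.zpowers_le.2 hzc) (by rw [Nat.card_zpowers, hord, hc])).ge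
  refine hker.trans (Subgroup.zpowers_le.2 ?_)
  rw [← Abelianization.ker_of, MonoidHom.mem_ker]
  set θ := (Abelianization.of : threeJ3 Four Four.w →* _)
  have e0 : θ (v 0) * θ (v 0) = 1 := by rw [← map_mul, show v 0 * v 0 = 1 from hsq 0, map_one]
  have e1 : θ (v 1) * θ (v 1) = θ z := by rw [← map_mul, show v 1 * v 1 = z from hsq 1]
  have e2 : θ (v 2) * θ (v 2) = 1 := by rw [← map_mul, show v 2 * v 2 = 1 from hsq 2, map_one]
  have e3 : θ (v 3) * θ (v 3) = 1 := by rw [← map_mul, show v 3 * v 3 = 1 from hsq 3, map_one]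
  have e4 : (θ (v 0) * θ (v 1) * θ (v 2) * θ (v 1) * θ (v 3)) ^ 5 = θ z := by
    rw [← hrel, ← map_mul, ← map_mul, ← map_mul, ← map_mul, ← map_pow]
    congr 1
    simp [powWord, pow_succ, mul_assoc]
  have e5 : θ z ^ 3 = 1 := by rw [← map_pow, hz3, map_one]
  generalize θ (v 0) = a at e0 e4
  generalize θ (v 1) = b at e1 e4
  generalize θ (v 2) = c at e2 e4
  generalize θ (v 3) = d at e3 e4
  generalize θ z = s at e1 e4 e5 ⊢
  have key : s ^ 10 = s ^ 2 := by
    conv_rhs => rw [← e4]
    rw [← pow_mul, show 5 * 2 = 2 * 5 from rfl, pow_mul, pow_two, show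
      a * b * c * b * d * (a * b * c * b * d) = (a * a) * ((b * b) * (b * b)) * (c * c) * (d * d) by
      simp only [mul_comm, mul_left_comm, mul_assoc], e0, e1, e2, e3, one_mul, mul_one, mul_one, ← pow_two,
      ← pow_mul]
  have e6 : s ^ 10 = s := by rw [show (10 : ℕ) = 3 * 3 + 1 from rfl, pow_succ, pow_mul, e5, one_pow, one_mul]
  rw [e6, pow_two] at key
  exact left_eq_mul.1 key

end CfsgLib.Spor.JThreeMult
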