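import Cfsg.Agent.Lib.Spor.SchurCert.ActBridge
import Cfsg.Agent.Lib.Spor.J3.ActJ.Data
import Cfsg.Agent.Lib.Spor.JThreeOut.ChainZ

/-!
The certificate at the prime 17: a polycyclic sequence of a Sylow subgroup and conjugations killing the tails.
-/

set_option autoImplicit false
set_option maxRecDepth 100000
set_option maxHeartbeats 0

namespace CfsgLib.Spor.JThreeMult.P17

open CfsgLib.Spor.TC CfsgLib.Spor.ActCert CfsgLib.Spor.SchurCert

/-- The Sylow elements. -/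
def sw : List (List ℕ) := [
    [2, 3, 1, 0, 2, 1, 2, 0, 3, 3, 2, 1, 0, 3, 2, 1, 2, 1, 0, 3, 2, 1, 3, 1, 0, 2]]

/-- The conjugating elements. -/
def gw : List (List ℕ) := [
    [3, 2, 1, 0, 3, 0, 2, 0, 1, 1, 2, 1, 0, 3, 1, 2, 0, 2, 1, 3, 2, 1, 0, 3, 1, 0]]

/-- The certificate. -/
def cert : SchurCert.Cert where
  p := 17
  m := 1
  N := 17
  rules := [
    ([0, 0, 0, 0, 0, 0, 0, 0, 0, 0, 0, 0, 0, 0, 0, 0, 0], [])]
  maps := [
    [([0], [0, 0])]]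
  overlaps := []
  fuses := [
    ⟨0, [0, 0, 0, 0, 0, 0, 0, 0, 0, 0, 0, 0, 0, 0, 0, 0, 0], [], [(0, 0)], [], [(0, 0), (0, 0)], []⟩]
  adj := [
    []]
  base := []
  dense := [
    [16]]
  tgt := [
    ([], [(0, 16)])]

/-- Orbits inside the subgroup. -/
def orbits : List (ℕ × List (ℕ × List ℕ)) := [
    (592, [(312, [0, 0, 0, 0, 0, 0, 0, 0]), (385, [0, 0, 0, 0, 0, 0, 0, 0, 0, 0, 0, 0, 0, 0, 0, 0]), (592, []), (1265, [0, 0]), (1339, [0, 0, 0, 0, 0, 0, 0, 0, 0, 0, 0]), (1794, [0, 0, 0, 0, 0, 0, 0]), (2292, [0]), (2328, [0, 0, 0, 0, 0, 0, 0, 0, 0]), (2848, [0, 0, 0, 0, 0, 0, 0, 0, 0, 0, 0, 0, 0]), (3287, [0, 0, 0, 0, 0, 0, 0, 0, 0, 0, 0, 0, 0, 0, 0]), (3325, [0, 0, 0, 0, 0]), (3657, [0, 0, 0, 0, 0, 0, 0, 0, 0, 0]), (3807, [0, 0, 0, 0, 0, 0]), (4552, [0, 0, 0, 0, 0, 0, 0, 0, 0, 0, 0, 0]), (4692, [0, 0, 0, 0, 0, 0, 0, 0, 0, 0, 0, 0, 0, 0]), (5946, [0, 0, 0]), (6143, [0, 0, 0,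 0])])]

theorem ident_ok : identOK CfsgLib.Spor.J3.ActJ.act cert sw gw CfsgLib.Spor.JThreeOut.levZ = true := by decide +kernel

theorem sub_ok : subChainOK CfsgLib.Spor.J3.ActJ.act sw [] orbits = true := by decide +kernel

theorem shape_ok : cert.shapeOK = true := by decide +kernel

theorem lin_ok : cert.linOK = true := by decide +kernel

theorem prod_ok : cert.p ^ cert.m ≤ (orbits.map fun e => e.2.length).prod := by decide +kernel

end CfsgLib.Spor.JThreeMult.P17
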