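import Cfsg.Agent.Lib.Spor.SchurCert.ActBridge
import Cfsg.Agent.Lib.Spor.J3.ActJ.Data
import Cfsg.Agent.Lib.Spor.JThreeOut.ChainZ

/-!
The certificate at the prime 3: a polycyclic sequence of a Sylow subgroup and conjugations killing the tails.
-/

set_option autoImplicit false
set_option maxRecDepth 100000
set_option maxHeartbeats 0

namespace CfsgLib.Spor.JThreeMult.P3

open CfsgLib.Spor.TC CfsgLib.Spor.ActCert CfsgLib.Spor.SchurCert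

/-- The Sylow elements. -/
def sw : List (List ℕ) := [
    [3, 1, 2, 3, 2, 0, 3, 2, 3, 1, 3, 0, 2, 1, 2, 0, 3, 1, 0, 3, 2, 1, 2, 0, 3, 0],
    [2, 0, 2, 0, 1, 3, 0, 2, 3, 1, 3, 1, 2, 1, 0, 3, 2, 1, 0, 2, 1, 0, 2, 1, 3, 1, 0],
    [2, 3, 1, 0, 3, 1, 2, 1, 2, 0, 1, 3, 2, 1, 0, 2, 0, 3, 1, 2, 1, 2, 0, 2, 1, 3, 2, 1, 0, 2],
    [0, 3, 2, 0, 3, 1, 3, 2, 0, 3, 1, 3, 1, 0, 2, 1, 3, 1, 2, 1, 0, 3, 1, 3, 0, 2, 1, 0, 3, 2, 1, 0],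
    [0, 1, 0, 2, 1, 0, 2, 0, 2, 1, 2, 0, 3, 2, 1, 3, 0, 2, 1, 2, 1, 3, 1, 0, 3, 0]]

/-- The conjugating elements. -/
def gw : List (List ℕ) := [
    [1, 3, 1, 0, 1, 0, 1, 2, 3, 0, 1, 2, 1, 3, 0, 2, 1, 2, 0, 3, 1, 0, 2, 0, 3, 1, 2, 1, 0]]

/-- The certificate. -/
def cert : SchurCert.Cert where
  p := 3
  m := 5
  N := 9
  rules := [
    ([0, 0, 0], [3, 3, 4]),
    ([1, 1, 1], [4, 4]),
    ([2, 2, 2], []),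
    ([3, 3, 3], []),
    ([4, 4, 4], []),
    ([1, 0], [0, 1, 2, 2, 3, 3]),
    ([2, 0], [0, 2, 3, 4]),
    ([2, 1], [1, 2, 3]),
    ([3, 0], [0, 3]),
    ([3, 1], [1, 3]),
    ([3, 2], [2, 3]),
    ([4, 0], [0, 4]),
    ([4, 1], [1, 4]),
    ([4, 2], [2, 4]),
    ([4, 3], [3, 4])]
  maps := [
    [([0], [0, 0, 1, 1, 2, 2, 3, 3, 4]), ([1], [0, 0, 1, 2, 2, 4]), ([2], [2, 3, 3]), ([3], [4, 4]), ([4], [3])]]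
  overlaps := [
    ([0, 0, 0, 0], [(0, 0), (11, 2), (8, 1), (8, 0)], [(0, 1)]),
    ([1, 1, 1, 1], [(1, 0), (12, 1), (12, 0)], [(1, 1)]),
    ([1, 1, 1, 0], [(1, 0), (11, 1), (11, 0)], [(5, 2), (5, 1), (5, 0), (9, 5), (9, 4), (7, 3), (7, 2), (10, 4), (3, 5), (10, 5), (2, 3), (10, 3), (3, 4), (7, 3), (1, 1), (13, 2), (13, 1), (14, 3), (14, 2), (13, 4), (13, 3), (10, 2), (13, 5), (13, 4), (10, 3), (2, 1), (14, 3), (14, 2), (14, 4), (14, 3), (3, 1)]),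
    ([1, 0, 0, 0], [(0, 1)], [(5, 0), (8, 5), (8, 4), (6, 3), (6, 2), (5, 1), (10, 6), (10, 5), (2, 3), (3, 3), (13, 3), (14, 4), (14, 6), (14, 5), (14, 7), (14, 6), (3, 4), (11, 5), (11, 4), (6, 3), (5, 2), (0, 0), (12, 2), (9, 1), (9, 0), (13, 3), (10, 2), (10, 1), (13, 4), (10, 3), (10, 2), (14, 5), (3, 3), (14, 3), (13, 4), (10, 3), (2, 1), (14, 2), (4, 3)]),
    ([2, 2, 2, 0], [(2, 0)], [(6, 2), (6, 1), (6, 0), (13, 3), (10, 2), (14, 4), (13, 6), (13, 5), (10, 4), (10, 3), (2, 1), (14, 4), (14, 3), (3, 1), (4, 1)]),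
    ([2, 0, 0, 0], [(0, 1)], [(6, 0), (11, 3), (8, 2), (6, 1), (14, 4), (11, 6), (11, 5), (8, 4), (8, 3), (6, 2), (0, 0), (13, 2), (10, 1), (10, 0), (14, 3), (3, 1), (14, 2), (14, 1), (14, 3), (14, 2), (4, 3)]),
    ([2, 2, 2, 1], [(2, 0)], [(7, 2), (7, 1), (7, 0), (10, 2), (10, 4), (10, 3), (2, 1), (3, 1)]),
    ([2, 1, 1, 1], [(1, 1)], [(7, 0), (9, 2), (7, 1), (9, 4), (9, 3), (7, 2), (1, 0), (13, 1), (13, 0), (14, 2), (14, 1), (14, 3), (14, 2), (14, 4), (14, 3), (3, 1)]),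
    ([2, 1, 0], [(7, 0), (8, 2), (6, 1), (5, 0), (10, 5), (10, 4), (2, 2), (3, 2), (14, 2)], [(5, 1), (6, 0), (12, 3), (9, 2), (7, 1), (13, 5), (10, 4), (10, 3), (13, 6), (10, 5), (10, 4), (2, 2), (14, 4), (3, 2), (14, 2)]),
    ([3, 3, 3, 0], [(3, 0)], [(8, 2), (8, 1), (8, 0), (3, 1)]),
    ([3, 1, 0], [(9, 0), (8, 1), (5, 0), (3, 4)], [(5, 1), (8, 0), (9, 1), (10, 2), (10, 3), (3, 4)]),
    ([4, 1, 0], [(12, 0), (11, 1), (5, 0)], [(5, 1), (11, 0), (12, 1), (13, 2), (13, 3), (14, 4), (14, 5)])]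
  fuses := [
    ⟨0, [0, 0, 0], [3, 3, 4], [(0, 0)], [], [(11, 8), (8, 7), (8, 6), (6, 5), (6, 4), (5, 3), (5, 2), (0, 0), (12, 2), (9, 1), (9, 0), (13, 3), (10, 2), (10, 1), (13, 4), (10, 3), (10, 2), (14, 5), (3, 3), (14, 3), (12, 4), (9, 3), (7, 2), (7, 1), (10, 3), (3, 4), (13, 4), (2, 2), (13, 2), (14, 3), (14, 4), (13, 5), (10, 4), (10, 3), (14, 6), (3, 4), (13, 5), (13, 4), (2, 2), (14, 3), (14, 2), (4, 3), (3, 2), (11, 2), (5, 1), (5, 0), (9, 5), (9, 4), (7, 3), (7, 2), (10, 4), (3, 5), (10, 5), (2, 3), (10, 3), (3, 4), (12, 4), (7, 3), (1, 1), (13, 2), (13, 1), (14, 3), (14, 2), (4, 3), (9, 2), (7, 1), (10, 4), (10, 3), (10, 5), (10, 4), (2, 2), (3, 2), (11, 3), (8, 2), (5, 1), (3, 5), (11, 5), (6, 4), (6, 3), (5, 2), (0, 0), (12, 2), (9, 1), (9, 0), (13, 3), (10, 2), (10, 1),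 (13, 4), (10, 3), (10, 2), (14, 5), (3, 3), (14, 3), (13, 4), (10, 3), (2, 1), (14, 2), (13, 4), (13, 3), (10, 2), (10, 1), (14, 5), (14, 4), (3, 2), (4, 2), (12, 2), (7, 1), (12, 4), (9, 3), (7, 2), (1, 0), (13, 1), (13, 0), (14, 2), (14, 1), (14, 3), (14, 2), (4, 3), (10, 2), (10, 1), (10, 3), (10, 2), (2, 0), (3, 0)], [(4, 0), (14, 0)]⟩,
    ⟨0, [2, 0], [0, 2, 3, 4], [(6, 0)], [], [(8, 2), (8, 1), (6, 0), (14, 3), (14, 4), (3, 2), (11, 2), (6, 1), (12, 5), (12, 4), (9, 3), (7, 2), (12, 7), (12, 6), (9, 5), (9, 4), (7, 3), (3, 5), (13, 6), (13, 5), (13, 7), (13, 6), (2, 4), (14, 5), (14, 4), (14, 6), (14, 5), (4, 6)], [(13, 8), (10, 7), (10, 6), (2, 4), (14, 6), (3, 4), (14, 4), (4, 5)]⟩,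
    ⟨0, [1, 1, 1], [4, 4], [(1, 0)], [], [(11, 5), (6, 4), (6, 3), (5, 2), (0, 0), (12, 2), (9, 1), (9, 0), (13, 3), (10, 2), (10, 1), (13, 4), (10, 3), (10, 2), (14, 5), (3, 3), (14, 3), (13, 4), (10, 3), (2, 1), (14, 2), (13, 4), (13, 3), (10, 2), (10, 1), (14, 5), (14, 4), (3, 2), (4, 2), (11, 2), (6, 1), (5, 0), (10, 5), (10, 4), (2, 2), (3, 2), (12, 3), (12, 2), (13, 4), (13, 3), (13, 5), (13, 4), (4, 5), (6, 4), (6, 3), (5, 2), (5, 1), (9, 6), (9, 5), (7, 4), (7, 3), (10, 5), (3, 6), (10, 6), (2, 4), (10, 4), (3, 5), (13, 7), (10, 6), (2, 4), (14, 5), (11, 7), (11, 6), (8, 5), (8, 4), (5, 3), (5, 2), (0, 0), (12, 2), (9, 1), (9, 0), (13, 3), (10, 2), (10, 1), (13, 4), (10, 3), (10, 2), (14, 5), (3, 3), (14, 3), (12, 4), (9, 3), (7, 2), (7, 1), (10, 3), (3, 4), (13, 4), (2, 2),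 (13, 2), (14, 3), (14, 4), (14, 5), (3, 3), (14, 3), (4, 4), (9, 3), (7, 2), (1, 0), (13, 1), (13, 0), (14, 2), (14, 1), (14, 3), (14, 2), (13, 4), (13, 3), (10, 2), (10, 1), (13, 5), (13, 4), (10, 3), (10, 2), (2, 0), (4, 2)], []⟩,
    ⟨0, [2, 1], [1, 2, 3], [(7, 0)], [], [(8, 2), (8, 1), (6, 0), (14, 3), (14, 4), (3, 2), (11, 2), (6, 1), (12, 5), (12, 4), (9, 3), (7, 2), (13, 7), (13, 6), (10, 5), (10, 4), (13, 8), (13, 7), (10, 6), (10, 5), (2, 3), (4, 5)], [(13, 5), (2, 3), (14, 3), (14, 4), (4, 5)]⟩]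
  adj := [
    [(5, 1), (6, 1), (16, 2)],
    [(5, 2), (15, 2), (16, 2), (19, 1)],
    [(5, 5), (7, 8)],
    [(7, 1)],
    [(1, 5), (5, 3), (15, 3), (16, 3), (19, 6)]]
  base := [
    ([(8, 1)], 3, [(9, 2)])]
  dense := [
    [0, 0, 0, 0, 0, 0, 0, 0, 2, 0, 0, 1],
    [0, 0, 0, 0, 0, 0, 0, 0, 0, 0, 0, 0, 2],
    [0, 0, 7, 6, 0, 6, 0, 6, 0, 7, 4, 2, 0, 3, 3],
    [0, 0, 7, 6, 8, 6, 6, 0, 7, 7, 2, 7, 8, 5, 1],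
    [0, 0, 0, 8, 8, 0, 6, 0, 0, 0, 6, 0, 0, 6, 6],
    [0, 0, 0, 8, 8, 0, 6, 0, 6, 0, 7, 6, 0, 8, 3],
    [0, 0, 0, 8, 0, 0, 0, 6, 0, 0, 6],
    [0, 0, 0, 8, 0, 0, 0, 6, 0, 6, 0, 0, 0, 7, 3],
    [0, 0, 0, 0, 0, 0, 0, 0, 1, 8, 7, 0, 8, 7, 8],
    [0, 0, 0, 0, 0, 0, 0, 0, 6],
    [0, 0, 0, 0, 0, 0, 0, 0, 0, 0, 7],
    [0, 0, 0, 0, 0, 0, 0, 0, 0, 0, 0, 0, 0, 7, 7],
    [8, 7, 3, 7, 6, 3, 5, 1, 6, 0, 2, 5, 3, 2, 1, 6, 0, 0, 2, 1],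
    [0, 0, 0, 8, 0, 0, 8, 7, 7, 6, 2, 8, 5, 6, 5, 0, 0, 0, 1, 1],
    [7, 0, 3, 1, 5, 3, 4, 4, 7, 1, 5, 5, 4, 7, 2, 0, 6, 0, 0, 2],
    [0, 0, 0, 8, 0, 0, 7, 0, 7, 8, 5, 8, 7, 6, 0, 0, 0, 0, 1]]
  tgt := [
    ([(0, 2)], [(2, 4), (3, 5), (4, 8), (6, 6), (8, 2), (11, 5), (12, 7), (13, 4), (14, 5)]),
    ([], []),
    ([], [(0, 2), (1, 1), (3, 4), (4, 4), (5, 1), (7, 1), (8, 7), (10, 8)]),
    ([], [(0, 3), (1, 6), (2, 6), (3, 3), (4, 3), (5, 3), (6, 2), (11, 6)]),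
    ([(0, 6)], [(1, 3), (4, 2), (6, 4), (11, 6), (12, 6), (14, 6), (15, 6)]),
    ([], []),
    ([(0, 4)], [(1, 8), (2, 6), (3, 6), (4, 8), (5, 6), (6, 5), (8, 3), (11, 6), (12, 7), (13, 3), (14, 1), (15, 1)]),
    ([], []),
    ([(0, 1)], []),
    ([(0, 7)], [(0, 3), (1, 4), (4, 2), (5, 7), (8, 8), (11, 8)]),
    ([], [(0, 2), (1, 4), (2, 1), (3, 8), (4, 2), (5, 8), (6, 8), (11, 1)]),
    ([(0, 7)], [(0, 1)]),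
    ([], [(1, 5)]),
    ([(0, 3)], [(0, 2), (1, 1), (2, 7), (3, 2), (4, 3), (5, 4), (6, 2), (11, 4)]),
    ([(0, 6)], [(0, 7), (1, 8), (2, 2), (3, 7), (4, 6), (5, 5), (6, 7)])]

/-- Orbits inside the subgroup. -/
def orbits : List (ℕ × List (ℕ × List ℕ)) := [
    (592, [(2, [3, 4, 4]), (9, [1, 1, 3, 3]), (110, [0, 1, 1, 2, 2]), (172, [1, 2, 2]), (192, [0, 2, 2, 3, 3]), (206, [3, 3, 4, 4]), (213, [2, 2, 3]), (238, [0, 0, 1, 1, 3, 4]), (253, [1, 1, 2, 4]), (268, [1, 2, 4, 4]), (301, [1, 1]), (384, [2, 4]), (388, [0, 3, 3, 4]), (389, [1, 1, 2, 2, 3, 3]), (410, [0, 0, 2, 4, 4]), (417, [2, 3, 3, 4, 4]), (496, [0, 0, 1, 2, 2, 3, 3, 4, 4]), (498, [0, 0, 1, 1, 3]), (513, [1, 1, 3, 3, 4, 4]), (548, [0, 0, 1, 1]), (551, [0, 0, 2, 3, 3, 4]), (555, [1, 2, 3, 4, 4]), (561, [0, 0, 1, 2, 2, 4, 4]),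 (572, [0, 1, 2, 4, 4]), (590, [2, 2]), (592, []), (618, [0, 1, 2, 2, 3, 3]), (648, [0, 1, 2, 3, 4]), (665, [0, 0, 1, 1, 2, 2, 3, 3, 4]), (667, [0, 0, 1, 2, 3, 3, 4, 4]), (697, [0, 0, 2, 3, 3, 4, 4]), (725, [0, 1, 1, 3, 3]), (732, [1, 2, 3, 3, 4, 4]), (734, [0, 0, 1, 1, 2, 2]), (757, [1, 1, 2, 3, 4, 4]), (775, [0, 0, 1, 3, 3, 4, 4]), (790, [0, 0, 2, 2, 3, 3]), (813, [1, 3, 3, 4, 4]), (821, [0, 1, 2, 2, 4]), (838, [0, 0, 1, 1, 4, 4]), (858, [0, 1, 3, 3, 4, 4]), (872, [0, 0, 1]), (887, [0, 0, 2, 2, 3, 3, 4]), (893, [0, 0, 1, 1, 2, 2, 3, 4, 4]), (898, [1, 2, 2, 3, 4, 4]), (903, [0, 1, 1, 2]), (938, [0, 0, 1, 1, 2, 3, 3, 4, 4]), (962, [0, 2, 2, 3, 3, 4, 4]), (1020, [0, 1, 2, 3, 3]), (1046, [1, 1, 2, 4, 4]), (1047, [1, 1, 3, 4]), (1104, [2, 2, 4]), (1143, [0, 0, 1, 2, 4, 4]), (1147, [1, 2,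 3]), (1158, [0, 0, 2, 2]), (1185, [0, 0, 1, 1, 2, 3, 3, 4]), (1211, [0, 0, 1, 1, 3, 4, 4]), (1261, [2, 2, 3, 3, 4, 4]), (1270, [0, 1, 3, 3]), (1274, [0, 0, 2, 3]), (1298, [2, 4, 4]), (1304, [0, 0, 1, 2, 4]), (1361, [0, 0, 1, 2]), (1369, [0, 0, 1, 2, 2, 4]), (1384, [1, 2, 2, 3, 4]), (1388, [0, 1, 2, 2]), (1391, [0, 3, 3]), (1394, [0, 2]), (1431, [0, 0, 4]), (1433, [1, 1, 2, 2]), (1480, [0, 0, 4, 4]), (1513, [0, 0, 1, 4, 4]), (1522, [0, 1, 1, 2, 2, 3, 4]), (1540, [0, 1, 1, 2, 3]), (1549, [0, 1, 1, 2, 3, 4]), (1626, [2, 3, 3, 4]), (1646, [1, 1, 2, 2, 3, 3, 4]), (1700, [1, 4, 4]), (1701, [0, 0, 1, 3]), (1744, [0, 1, 1, 2, 2, 3, 3, 4]), (1745, [0, 0, 1, 2, 2, 3, 4, 4]), (1770, [1, 1, 2, 2, 3, 4, 4]), (1771, [0, 2, 3, 3, 4, 4]), (1824, [1, 3]), (1863, [3, 3]), (1868, [0, 0, 3, 3, 4]), (1895,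 [1, 1, 2, 2, 3, 4]), (1959, [0, 1, 2, 4]), (1973, [0, 0, 2, 2, 3, 4, 4]), (1987, [1, 2, 3, 3, 4]), (2000, [0, 2, 3, 3, 4]), (2029, [0, 2, 3, 3]), (2043, [0, 2, 2]), (2062, [0, 2, 3, 4, 4]), (2096, [0]), (2130, [0, 1, 1, 3, 3, 4, 4]), (2133, [0, 1, 1, 2, 2, 4, 4]), (2193, [0, 1, 3, 3, 4]), (2300, [1, 4]), (2302, [1, 2]), (2364, [2, 3]), (2389, [1, 1, 2, 2, 4, 4]), (2396, [2]), (2401, [0, 0, 2, 2, 3, 4]), (2408, [0, 0, 3, 4, 4]), (2454, [2, 2, 3, 3]), (2509, [0, 1, 4]), (2543, [0, 0, 1, 1, 3, 3, 4]), (2590, [0, 0, 2, 3, 3]), (2596, [2, 3, 4]), (2603, [1, 1, 2, 3, 3, 4]), (2616, [1, 1, 4]), (2634, [1, 2, 2, 3, 3]), (2676, [0, 1, 2, 2, 4, 4]), (2684, [0, 1, 2, 3, 3, 4, 4]), (2694, [0, 0, 1, 2, 3]), (2698, [1, 2, 3, 4]), (2781, [0, 2, 3, 4]), (2783, [0, 3, 4]), (2797, [0, 0]), (2805, [1,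 1, 3, 3, 4]), (2818, [0, 1, 3, 4]), (2849, [2, 2, 3, 4, 4]), (2856, [0, 0, 1, 2, 2, 3, 4]), (2877, [1, 2, 3, 3]), (2884, [0, 1, 2, 2, 3, 3, 4]), (2931, [0, 0, 1, 2, 2, 3]), (2943, [0, 0, 2, 2, 4]), (2944, [4]), (2995, [0, 0, 1, 1, 2]), (3004, [0, 0, 1, 3, 4]), (3040, [0, 0, 1, 1, 2, 2, 3, 4]), (3045, [0, 0, 1, 1, 2, 3, 3]), (3050, [0, 2, 2, 3, 4, 4]), (3086, [1]), (3118, [1, 3, 3]), (3123, [0, 1, 1, 2, 3, 3, 4, 4]), (3156, [0, 2, 3]), (3178, [1, 2, 2, 4, 4]), (3303, [0, 1, 1, 2, 3, 3]), (3393, [2, 2, 3, 4]), (3415, [0, 0, 1, 3, 3, 4]), (3448, [0, 1, 1, 2, 2, 3, 3, 4, 4]), (3489, [0, 4]), (3520, [1, 1, 2, 3, 3]), (3530, [0, 0, 2, 2, 4, 4]), (3548, [0, 1, 1, 2, 4, 4]), (3572, [0, 1, 2, 2, 3]), (3606, [1, 1, 2, 3, 4]), (3608, [0, 1, 2, 2, 3, 4, 4]), (3617, [0, 1, 1, 2, 4]), (3697, [0, 1,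 1, 3, 3, 4]), (3841, [0, 0, 2, 2, 3]), (3854, [0, 0, 1, 1, 2, 2, 3, 3, 4, 4]), (3927, [0, 0, 1, 2, 2, 3, 3]), (3928, [0, 1, 1, 4, 4]), (3948, [0, 1, 4, 4]), (3950, [0, 1, 1, 2, 2, 3, 3]), (3964, [1, 1, 2, 2, 4]), (4030, [1, 2, 2, 4]), (4097, [0, 2, 4, 4]), (4113, [0, 0, 1, 1, 2, 2, 3]), (4161, [0, 0, 1, 1, 2, 2, 4]), (4190, [0, 0, 1, 1, 2, 4, 4]), (4194, [0, 1, 1, 2, 3, 4, 4]), (4200, [0, 1, 1, 2, 2, 4]), (4217, [0, 2, 2, 3]), (4224, [1, 1, 4, 4]), (4327, [0, 2, 2, 3, 4]), (4349, [4, 4]), (4353, [0, 1, 1, 3]), (4394, [0, 0, 1, 4]), (4405, [1, 1, 2, 3]), (4419, [0, 4, 4]), (4420, [0, 0, 3, 3]), (4440, [1, 1, 3, 4, 4]), (4443, [0, 0, 1, 1, 2, 4]), (4448, [1, 3, 3, 4]), (4463, [0, 0, 1, 1, 3, 3, 4, 4]), (4492, [0, 3, 3, 4, 4]), (4527, [0, 0, 2, 3, 4, 4]), (4566, [0, 1, 2, 2, 3, 4]), (4582,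 [0, 0, 1, 1, 4]), (4629, [1, 2, 2, 3]), (4651, [0, 1, 1, 3, 4, 4]), (4658, [0, 1, 1, 4]), (4665, [0, 1, 3]), (4691, [0, 2, 2, 4, 4]), (4710, [0, 0, 3, 3, 4, 4]), (4780, [0, 2, 4]), (4817, [0, 0, 2, 3, 4]), (4852, [0, 0, 3, 4]), (4855, [2, 3, 4, 4]), (4872, [0, 0, 1, 2, 3, 3, 4]), (4903, [0, 1, 1, 2, 2, 3, 4, 4]), (4919, [0, 0, 1, 1, 2, 2, 3, 3]), (4921, [0, 0, 1, 1, 2, 2, 4, 4]), (4927, [0, 0, 1, 2, 3, 4]), (4935, [1, 2, 4]), (4949, [0, 0, 1, 1, 2, 3, 4]), (4953, [0, 3]), (4978, [1, 3, 4, 4]), (5010, [1, 1, 2]), (5013, [2, 2, 4, 4]), (5025, [1, 2, 2, 3, 3, 4, 4]), (5052, [0, 3, 4, 4]), (5081, [0, 0, 2, 4]), (5113, [0, 1]), (5156, [0, 1, 2, 3, 4, 4]), (5162, [0, 0, 1, 2, 2]), (5177, [1, 2, 2, 3, 3, 4]), (5272, [0, 0, 1, 1, 2, 3]), (5318, [0, 2, 2, 4]), (5373, [0, 0, 1, 3, 4, 4]), (5383,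 [0, 0, 1, 2, 2, 3, 3, 4]), (5395, [0, 1, 1, 2, 2, 3]), (5402, [0, 2, 2, 3, 3, 4]), (5425, [3]), (5443, [1, 1, 3]), (5460, [0, 0, 1, 1, 2, 3, 4, 4]), (5485, [1, 1, 2, 2, 3, 3, 4, 4]), (5524, [0, 0, 3]), (5535, [2, 3, 3]), (5538, [0, 1, 2, 3, 3, 4]), (5556, [0, 0, 1, 1, 3, 3]), (5566, [1, 1, 2, 3, 3, 4, 4]), (5595, [0, 1, 2]), (5609, [1, 1, 2, 2, 3]), (5636, [0, 1, 1, 3, 4]), (5655, [0, 0, 1, 3, 3]), (5776, [0, 0, 1, 2, 3, 3]), (5787, [0, 1, 1]), (5798, [0, 1, 1, 2, 3, 3, 4]), (5810, [0, 1, 3, 4, 4]), (5837, [1, 3, 4]), (5843, [0, 0, 1, 2, 3, 4, 4]), (5845, [3, 3, 4]), (5851, [0, 1, 2, 2, 3, 3, 4, 4]), (5874, [0, 1, 2, 3]), (5906, [0, 0, 2, 2, 3, 3, 4, 4]), (6008, [3, 4]), (6039, [0, 0, 2]), (6077, [2, 2, 3, 3, 4])])]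

theorem ident_ok : identOK CfsgLib.Spor.J3.ActJ.act cert sw gw CfsgLib.Spor.JThreeOut.levZ = true := by decide +kernel

theorem sub_ok : subChainOK CfsgLib.Spor.J3.ActJ.act sw [] orbits = true := by decide +kernel

theorem shape_ok : cert.shapeOK = true := by decide +kernel

theorem lin_ok : cert.linOK = true := by decide +kernel

theorem prod_ok : cert.p ^ cert.m ≤ (orbits.map fun e => e.2.length).prod := by decide +kernel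

end CfsgLib.Spor.JThreeMult.P3
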