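import Cfsg.Agent.Lib.Spor.JThreeMult.P2
import Cfsg.Agent.Lib.Spor.JThreeMult.P3
import Cfsg.Agent.Lib.Spor.JThreeMult.P5
import Cfsg.Agent.Lib.Spor.JThreeMult.P17
import Cfsg.Agent.Lib.Spor.JThreeMult.P19
import Cfsg.Agent.Lib.Spor.JThreeMult.Cover
import Cfsg.Agent.Lib.Spor.JThreeOut.Out
import Cfsg.Agent.Lib.Lie.Mult.Sylow

/-!
The Schur multiplier of the third Janko group has order three: certificates at each prime, and the matrix cover.
-/

set_option autoImplicit false

namespace CfsgLib.Spor.JThreeMult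

open Cfsg CfsgLib.Spor.TC CfsgLib.Spor.ActCert CfsgLib.Spor.SchurCert CfsgLib.Spor.J3 CfsgLib.Spor.Fi22.U6

theorem factor_of {p a b : ℕ} (hp : p.Prime) (hb : ¬ p ∣ b) (e : (50232960 : ℕ) = p ^ a * b) :
    (50232960 : ℕ).factorization p = a := by
  have h0 : b ≠ 0 := by rintro rfl; simp at e
  rw [e, Nat.factorization_mul (pow_ne_zero _ hp.ne_zero) h0, Nat.factorization_pow, Finsupp.add_apply,
    Finsupp.smul_apply, hp.factorization_self, Nat.factorization_eq_zero_of_not_dvd hb]
  simp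

theorem card_ker_dvd {Γ : Type*} [Group Γ] [Finite Γ]
    (σ : Γ →* Pres CfsgLib.Spor.J3.ActJ.act.k CfsgLib.Spor.J3.relsJ) (hσ : Cfsg.IsStemExtension σ) :
    Nat.card σ.ker ∣ 3 := by
  have hE := JThreeOut.exact_of JThreeOut.chainZ_ok
  have : Finite (Pres CfsgLib.Spor.J3.ActJ.act.k CfsgLib.Spor.J3.relsJ) :=
    Nat.finite_of_card_ne_zero (by rw [J3.card_eq]; norm_num)
  haveI : Fact (Nat.Prime 3) := ⟨Nat.prime_three⟩
  refine card_ker_dvd_prime (fun ℓ hℓ hne => ?_) fun P hP hPp => ?_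
  · have : Fact ℓ.Prime := ⟨hℓ⟩
    by_cases h2 : ℓ = 2
    · subst h2
      haveI : Fact P2.cert.p.Prime := ⟨by rw [show P2.cert.p = 2 from rfl]; norm_num⟩
      exact not_dvd_ker_act hE P2.cert P2.sw P2.gw P2.orbits rfl rfl
        (by rw [J3.card_eq]; exact factor_of (p := 2) (a := 7) (b := 392445) (by norm_num) (by norm_num) (by norm_num))
        P2.ident_ok P2.sub_ok P2.prod_ok P2.shape_ok P2.lin_ok σ hσ
    by_cases h5 : ℓ = 5
    · subst h5
      haveI : Fact P5.cert.p.Prime := ⟨by rw [show P5.cert.p = 5 from rfl]; norm_num⟩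
      exact not_dvd_ker_act hE P5.cert P5.sw P5.gw P5.orbits rfl rfl
        (by rw [J3.card_eq]; exact factor_of (p := 5) (a := 1) (b := 10046592) (by norm_num) (by norm_num) (by norm_num))
        P5.ident_ok P5.sub_ok P5.prod_ok P5.shape_ok P5.lin_ok σ hσ
    by_cases h17 : ℓ = 17
    · subst h17
      haveI : Fact P17.cert.p.Prime := ⟨by rw [show P17.cert.p = 17 from rfl]; norm_num⟩
      exact not_dvd_ker_act hE P17.cert P17.sw P17.gw P17.orbits rfl rfl
        (by rw [J3.card_eq]; exact factor_of (p := 17) (a := 1) (b := 2954880) (by norm_num) (by norm_num) (by norm_num))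
        P17.ident_ok P17.sub_ok P17.prod_ok P17.shape_ok P17.lin_ok σ hσ
    by_cases h19 : ℓ = 19
    · subst h19
      haveI : Fact P19.cert.p.Prime := ⟨by rw [show P19.cert.p = 19 from rfl]; norm_num⟩
      exact not_dvd_ker_act hE P19.cert P19.sw P19.gw P19.orbits rfl rfl
        (by rw [J3.card_eq]; exact factor_of (p := 19) (a := 1) (b := 2643840) (by norm_num) (by norm_num) (by norm_num))
        P19.ident_ok P19.sub_ok P19.prod_ok P19.shape_ok P19.lin_ok σ hσ
    refine Lie.Mult.not_dvd_ker_of_cyclic hσ ⊥ ?_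
    rw [Subgroup.index_bot, J3.card_eq]
    intro hd
    rw [show (50232960 : ℕ) = 2 ^ 7 * 3 ^ 5 * 5 * 17 * 19 by norm_num] at hd
    have hq : ∀ q : ℕ, q.Prime → ℓ ∣ q → ℓ = q := fun q hq hdv => (Nat.prime_dvd_prime_iff_eq hℓ hq).1 hdv
    rcases hℓ.dvd_mul.1 hd with hd | hd
    · rcases hℓ.dvd_mul.1 hd with hd | hd
      · rcases hℓ.dvd_mul.1 hd with hd | hd
        · rcases hℓ.dvd_mul.1 hd with hd | hd
          · exact h2 (hq 2 Nat.prime_two (hℓ.dvd_of_dvd_pow hd))
          · exact hne (hq 3 Nat.prime_three (hℓ.dvd_of_dvd_pow hd))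
        · exact h5 (hq 5 Nat.prime_five hd)
      · exact h17 (hq 17 (by norm_num) hd)
    · exact h19 (hq 19 (by norm_num) hd)
  · haveI : Fact P3.cert.p.Prime := ⟨Nat.prime_three⟩
    obtain ⟨hswl, -, hrules, hmaps, -⟩ := ident_facts (h := J3.ActJ.valid) hE P3.cert P3.sw P3.gw P3.ident_ok
    have hfac : (Nat.card (Pres CfsgLib.Spor.J3.ActJ.act.k CfsgLib.Spor.J3.relsJ)).factorization P3.cert.p =
        P3.cert.m := by
      rw [J3.card_eq]; exact factor_of (p := 3) (a := 5) (b := 206720) Nat.prime_three (by norm_num) (by norm_num)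
    exact pGroup_card_le P3.cert hσ (e := 2) rfl (by decide) _ _ hrules hmaps P3.shape_ok P3.lin_ok
      (card_lower J3.ActJ.valid inferInstance P3.cert P3.sw P3.orbits hswl P3.sub_ok P3.prod_ok)
      (index_coprime (h := J3.ActJ.valid) hE P3.cert P3.sw P3.orbits hswl hrules hfac P3.sub_ok P3.prod_ok P3.shape_ok)
      P hP hPp

universe u

theorem multiplier_J3 {F : Type u} [Field F] [Fintype F] (hF : Fintype.card F = 4) (ω : F)
    (hω : ω ^ 2 + ω + 1 = 0) : Cfsg.HasCyclicSchurMultiplier (Spor.J3 F ω) 3 := by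
  haveI : Fact (Nat.Prime 3) := ⟨Nat.prime_three⟩
  obtain ⟨-, -, ⟨e⟩⟩ := J3.Mat.main hF ω hω
  obtain ⟨hc, hcard, ⟨e₀⟩⟩ := J3.Mat.main Four.card_four Four.w (by decide)
  haveI : Finite (Spor.threeJ3 Four Four.w) := Nat.finite_of_card_ne_zero (by rw [hcard]; norm_num)
  let π : ULift.{u} (Spor.threeJ3 Four Four.w) →* Spor.J3 F ω :=
    ((e₀.symm.trans e).toMonoidHom.comp (QuotientGroup.mk' (Subgroup.center (Spor.threeJ3 Four Four.w)))).comp
      MulEquiv.ulift.toMonoidHom
  refine hasCyclic_prime ⟨ULift.{u} (Spor.threeJ3 Four Four.w), inferInstance, inferInstance, π,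
    ⟨?_, ?_, ?_⟩, ?_⟩ fun Γ _ _ σ hσ => ?_
  · exact ((e₀.symm.trans e).surjective.comp (QuotientGroup.mk'_surjective _)).comp MulEquiv.ulift.surjective
  · intro g hg
    rw [MonoidHom.mem_ker] at hg
    have hd : g.down ∈ Subgroup.center (Spor.threeJ3 Four Four.w) :=
      (QuotientGroup.eq_one_iff _).1 ((e₀.symm.trans e).injective (hg.trans (map_one _).symm))
    exact Subgroup.mem_center_iff.2 fun h => ULift.ext _ _ (Subgroup.mem_center_iff.1 hd h.down)
  · intro g hg
    rw [MonoidHom.mem_ker] at hg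
    have hd : g.down ∈ Subgroup.center (Spor.threeJ3 Four Four.w) :=
      (QuotientGroup.eq_one_iff _).1 ((e₀.symm.trans e).injective (hg.trans (map_one _).symm))
    have h1 := Subgroup.mem_map_of_mem MulEquiv.ulift.symm.toMonoidHom (cover_perfect hd)
    rw [commutator_def, Subgroup.map_commutator] at h1
    exact Subgroup.commutator_mono le_top le_top h1
  · have e1 : π.ker = (Subgroup.center (Spor.threeJ3 Four Four.w)).comap MulEquiv.ulift.toMonoidHom := by
      ext g
      simp only [MonoidHom.mem_ker, Subgroup.mem_comap]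
      exact ⟨fun hg => (QuotientGroup.eq_one_iff _).1 ((e₀.symm.trans e).injective (hg.trans (map_one _).symm)),
        fun hg => by
          show (e₀.symm.trans e) (QuotientGroup.mk _) = 1
          rw [(QuotientGroup.eq_one_iff _).2 hg, map_one]⟩
    rw [e1]
    exact (Nat.card_congr (Equiv.subtypeEquiv Equiv.ulift fun g => Iff.rfl)).trans hc
  · have hk : (e.symm.toMonoidHom.comp σ).ker = σ.ker := MonoidHom.ker_comp_of_injective _ _ e.symm.injective
    have := card_ker_dvd (e.symm.toMonoidHom.comp σ)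
      ⟨e.symm.surjective.comp hσ.1, hk.le.trans hσ.2.1, hk.le.trans hσ.2.2⟩
    rwa [hk] at this

end CfsgLib.Spor.JThreeMult
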