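import Cfsg.Agent.Lib.Spor.SchurCert.ActBridge
import Cfsg.Agent.Lib.Spor.J3.ActJ.Data
import Cfsg.Agent.Lib.Spor.JThreeOut.ChainZ

/-!
The certificate at the prime 2: a polycyclic sequence of a Sylow subgroup and conjugations killing the tails.
-/

set_option autoImplicit false
set_option maxRecDepth 100000
set_option maxHeartbeats 0

namespace CfsgLib.Spor.JThreeMult.P2

open CfsgLib.Spor.TC CfsgLib.Spor.ActCert CfsgLib.Spor.SchurCert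

/-- The Sylow elements. -/
def sw : List (List ℕ) := [
    [0, 3, 1, 3, 1, 0, 2, 1, 3, 1, 0, 0, 3, 1, 0, 2, 1, 0, 2, 1, 0, 2, 1, 0, 2, 1, 3, 1, 0, 2],
    [3, 2, 3, 0, 1, 0, 2, 0, 3, 1, 2, 1, 3, 0, 2, 1, 2, 1, 2, 0, 3, 2, 1, 3, 2, 1, 2, 1],
    [3, 2, 1, 0, 3, 3, 2, 1, 0, 2, 0, 3, 1, 2, 1, 2, 1, 0, 2, 1, 3, 0, 2, 0],
    [1, 0, 2, 0, 1, 3, 0, 1, 2, 3, 1, 0, 2, 1, 0, 2, 1, 3, 2, 1, 0, 3, 1, 2, 0, 3, 1, 0],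
    [3, 1, 0, 2, 3, 0, 1, 0, 1, 0, 3, 1, 2, 0, 3, 2, 1, 3, 1, 0, 2, 0, 3, 1, 3, 2, 1],
    [1, 3, 2, 1, 2, 3, 0, 2, 0, 1, 3, 2, 1, 0, 2, 1, 3, 2, 0, 2, 1, 3, 0, 2, 1, 0, 2, 0],
    [2, 0, 2, 3, 1, 2, 0, 3, 2, 0, 2, 1, 0, 2, 1, 0, 2, 1, 0, 3, 2, 1, 2, 0, 3, 2, 1, 2, 1, 3, 2]]

/-- The conjugating elements. -/
def gw : List (List ℕ) := [
    [3, 0, 3, 0, 3, 2, 1, 3, 0, 2, 1, 0, 3, 1, 2, 1, 0, 3, 0, 2, 1, 3, 2, 1, 0, 2, 1, 0, 2, 0],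
    [0, 1, 2, 1, 2, 1, 0, 2, 0, 1, 0, 3, 2, 1, 3, 1, 0, 2, 1, 0, 3, 1, 3, 2, 1, 3, 1, 0, 2, 1, 2, 1, 0],
    [2, 0, 3, 1, 2, 3, 1, 0, 2, 0, 2, 1, 3, 2, 1, 2, 0, 2, 1, 3, 1, 2, 0, 3, 1, 2, 1, 2],
    [3, 0, 2, 1, 3, 0, 2, 1, 2, 1, 2, 0, 3, 1, 3, 1, 2, 0, 2]]

/-- The certificate. -/
def cert : SchurCert.Cert where
  p := 2
  m := 7
  N := 2
  rules := [
    ([0, 0], []),
    ([1, 1], []),
    ([2, 2], []),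
    ([3, 3], [5]),
    ([4, 4], [6]),
    ([5, 5], []),
    ([6, 6], []),
    ([1, 0], [0, 1, 2, 3, 4]),
    ([2, 0], [0, 2, 5]),
    ([2, 1], [1, 2, 4, 6]),
    ([3, 0], [0, 3, 6]),
    ([3, 1], [1, 3, 4]),
    ([3, 2], [2, 3, 5, 6]),
    ([4, 0], [0, 4, 5]),
    ([4, 1], [1, 4, 6]),
    ([4, 2], [2, 4, 6]),
    ([4, 3], [3, 4]),
    ([5, 0], [0, 5]),
    ([5, 1], [1, 5, 6]),
    ([5, 2], [2, 5]),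
    ([5, 3], [3, 5]),
    ([5, 4], [4, 5]),
    ([6, 0], [0, 6]),
    ([6, 1], [1, 6]),
    ([6, 2], [2, 6]),
    ([6, 3], [3, 6]),
    ([6, 4], [4, 6]),
    ([6, 5], [5, 6])]
  maps := [
    [([0, 3, 4], [2]), ([2], [0, 3, 4])],
    [([0, 2], [0, 2, 5]), ([3, 6], [0, 2, 3, 5, 6]), ([5], [5])],
    [([1], [1, 4, 6]), ([2, 3], [1, 5, 6]), ([4], [4, 6]), ([5], [1, 2, 3, 4, 6]), ([6], [6])],
    [([0, 3, 4], [2, 5, 6]), ([2], [0, 2, 3, 4]), ([5], [0, 2, 3, 4, 5, 6]), ([6], [0, 3, 4, 5, 6])]]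
  overlaps := [
    ([1, 1, 0], [(1, 0)], [(7, 1), (7, 0), (14, 4), (11, 3), (9, 2), (1, 1), (25, 3), (16, 2), (26, 4), (4, 3), (6, 3), (24, 4), (15, 3), (12, 2), (2, 1), (26, 3), (21, 2), (6, 4), (25, 4), (20, 3), (16, 2), (3, 1), (21, 1), (5, 2), (26, 2), (4, 1), (6, 1)]),
    ([1, 0, 0], [(0, 1)], [(7, 0), (13, 4), (10, 3), (8, 2), (7, 1), (0, 0), (15, 3), (12, 2), (2, 1), (26, 3), (21, 2), (6, 4), (5, 3), (16, 2), (3, 1), (21, 1), (26, 3), (21, 2), (4, 1), (27, 1), (6, 2), (5, 1)]),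
    ([2, 2, 0], [(2, 0)], [(8, 1), (8, 0), (19, 2), (2, 1), (5, 1)]),
    ([2, 0, 0], [(0, 1)], [(8, 0), (17, 2), (8, 1), (0, 0), (5, 1)]),
    ([2, 2, 1], [(2, 0)], [(9, 1), (9, 0), (24, 3), (15, 2), (2, 1), (6, 2), (4, 1), (6, 1)]),
    ([2, 1, 1], [(1, 1)], [(9, 0), (23, 3), (14, 2), (9, 1), (1, 0), (26, 2), (4, 1), (6, 1), (6, 1)]),
    ([2, 1, 0], [(9, 0), (22, 3), (13, 2), (8, 1), (7, 0), (15, 4), (12, 3), (2, 2), (26, 4), (21, 3), (6, 5), (5, 4), (4, 3), (27, 3), (6, 4)], [(7, 1), (8, 0), (18, 2), (9, 1), (27, 4), (6, 5), (19, 4), (15, 3), (2, 2), (27, 3), (25, 4), (20, 3), (16, 2), (26, 5), (21, 4), (4, 3), (27, 3), (6, 4)]),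
    ([3, 3, 3], [(3, 0), (20, 0)], [(3, 1)]),
    ([3, 3, 0], [(3, 0), (17, 0)], [(10, 1), (10, 0), (25, 2), (3, 1), (6, 2)]),
    ([3, 0, 0], [(0, 1)], [(10, 0), (22, 2), (10, 1), (0, 0), (6, 1)]),
    ([3, 3, 1], [(3, 0), (18, 0)], [(11, 1), (11, 0), (16, 2), (3, 1), (21, 1), (21, 2), (4, 1), (27, 1)]),
    ([3, 1, 1], [(1, 1)], [(11, 0), (14, 2), (11, 1), (1, 0), (4, 1), (6, 1)]),
    ([3, 1, 0], [(11, 0), (13, 2), (10, 1), (7, 0), (16, 4), (3, 3), (21, 3), (26, 5), (21, 4), (4, 3), (27, 3), (6, 4), (5, 3)], [(7, 1), (10, 0), (23, 2), (11, 1), (24, 4), (15, 3), (12, 2), (26, 5), (21, 4), (6, 6), (25, 6), (20, 5), (16, 4), (3, 3), (21, 3), (5, 4), (26, 4), (4, 3), (6, 3)]),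
    ([3, 3, 2], [(3, 0), (19, 0)], [(12, 1), (12, 0), (25, 3), (20, 2), (3, 1), (5, 1), (27, 1), (6, 2)]),
    ([3, 2, 2], [(2, 1)], [(12, 0), (24, 3), (19, 2), (12, 1), (2, 0), (27, 2), (5, 1), (6, 1)]),
    ([3, 2, 0], [(12, 0), (22, 3), (17, 2), (10, 1), (8, 0), (20, 2), (27, 4), (5, 3), (6, 3)], [(8, 1), (10, 0), (24, 2), (12, 1), (6, 4), (5, 3)]),
    ([3, 2, 1], [(12, 0), (23, 3), (18, 2), (11, 1), (9, 0), (25, 3), (16, 2), (26, 4), (4, 3), (6, 3), (6, 4)], [(9, 1), (11, 0), (15, 2), (12, 1), (26, 4), (21, 3), (6, 5), (21, 4), (4, 3), (27, 3), (6, 4)]),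
    ([4, 4, 0], [(4, 0), (22, 0)], [(13, 1), (13, 0), (21, 2), (4, 1), (27, 1), (27, 2), (5, 1)])]
  fuses := [
    ⟨0, [0, 0], [], [(13, 2), (10, 1), (0, 0), (26, 1), (27, 2), (25, 3), (20, 2), (16, 1), (3, 0), (21, 0), (5, 1), (26, 1), (4, 0), (6, 0)], [], [(2, 0)], []⟩,
    ⟨1, [0, 0], [2], [(8, 1), (0, 0), (19, 1), (2, 0)], [], [(17, 2), (8, 1), (0, 0), (5, 1), (2, 0)], []⟩,
    ⟨1, [1, 1], [2], [(25, 1), (3, 0), (6, 1)], [], [(22, 4), (17, 3), (10, 2), (8, 1), (0, 0), (20, 1), (27, 3), (5, 2), (6, 2), (12, 1), (2, 0), (25, 2), (20, 1), (3, 0), (5, 0), (27, 0), (6, 1)], []⟩,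
    ⟨2, [1, 0], [0, 1], [(11, 1), (9, 0), (25, 3), (16, 2), (26, 4), (4, 3), (6, 3)], [], [(23, 2), (18, 1), (1, 0), (6, 1), (21, 0)], [(23, 2), (14, 1), (1, 0), (6, 1)]⟩,
    ⟨2, [2, 0], [0, 2, 4], [(14, 0)], [], [(23, 1), (14, 0), (6, 2), (4, 1), (6, 1)], [(26, 2), (4, 1), (6, 1), (6, 1)]⟩,
    ⟨2, [3, 0], [0, 3, 4], [(18, 0)], [], [(23, 4), (14, 3), (11, 2), (9, 1), (1, 0), (25, 2), (16, 1), (26, 3), (4, 2), (6, 2), (6, 3), (4, 2), (6, 2)], [(23, 2), (14, 1), (1, 0), (6, 1), (15, 0), (25, 2), (16, 1), (26, 3), (4, 2), (6, 2), (6, 2)]⟩,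
    ⟨2, [1, 1], [4], [(12, 1), (2, 0), (25, 2), (20, 1), (3, 0), (5, 0)], [], [(23, 2), (18, 1), (1, 0), (6, 1), (5, 0)], []⟩,
    ⟨3, [2, 0], [0, 2], [(17, 0), (20, 1), (21, 2)], [], [(24, 5), (19, 4), (15, 3), (12, 2), (2, 1), (26, 3), (21, 2), (6, 4), (5, 3), (27, 3), (6, 4)], [(22, 2), (17, 1), (8, 0), (5, 2), (24, 2), (2, 1), (25, 1), (26, 2), (27, 3), (6, 4)]⟩]
  adj := [
    [],
    [],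
    [(4, 1), (7, 1), (9, 1)],
    [],
    [(4, 1), (9, 1)],
    [(3, 1)],
    [(4, 1)]]
  base := []
  dense := [
    [0, 0, 1, 1, 0, 1, 1, 0, 0, 1, 0, 1, 1, 0, 1, 1, 0, 0, 0, 0, 1, 0, 0, 0, 1, 0, 1],
    [0, 0, 1, 1, 1, 0, 0, 0, 1, 0, 1, 0, 1, 1, 0, 1, 1, 0, 0, 0, 0, 1, 0, 0, 0, 0, 0, 1],
    [0, 0, 0, 0, 0, 1, 0, 0, 0, 0, 0, 0, 0, 0, 0, 0, 0, 0, 0, 1],
    [0, 0, 0, 0, 0, 1, 0, 0, 0, 0, 0, 0, 0, 0, 0, 0, 0, 1],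
    [0, 0, 0, 0, 1, 0, 0, 0, 0, 0, 0, 0, 0, 0, 0, 1, 0, 0, 0, 0, 0, 0, 0, 0, 1],
    [0, 0, 0, 0, 1, 0, 0, 0, 0, 0, 0, 0, 0, 0, 1, 0, 0, 0, 0, 0, 0, 0, 0, 1, 0, 0, 1],
    [0, 0, 0, 0, 0, 1, 0, 0, 0, 0, 0, 0, 1, 1, 0, 0, 1, 0, 1, 1, 1, 0, 1, 0, 0, 1],
    [0, 0, 0, 0, 0, 0, 0, 0, 0, 0, 0, 0, 0, 0, 0, 0, 0, 0, 0, 0, 1],
    [0, 0, 0, 0, 0, 0, 1, 0, 0, 0, 0, 0, 0, 0, 0, 0, 0, 1, 0, 0, 0, 0, 0, 0, 0, 1],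
    [0, 0, 0, 0, 0, 0, 1, 0, 0, 0, 0, 0, 0, 0, 0, 0, 0, 0, 0, 0, 0, 0, 1],
    [0, 0, 0, 0, 1, 0, 0, 0, 0, 0, 0, 0, 0, 0, 0, 0, 1, 0, 1, 0, 0, 0, 0, 0, 0, 0, 0, 1],
    [0, 0, 0, 0, 1, 0, 1, 0, 0, 0, 0, 0, 0, 0, 1],
    [0, 0, 0, 0, 0, 0, 1, 0, 0, 0, 0, 0, 1, 1, 0, 1, 0, 0, 0, 0, 1, 0, 0, 1, 1, 1, 1, 1],
    [0, 0, 0, 0, 0, 1, 1, 0, 0, 0, 0, 0, 0, 0, 0, 0, 0, 0, 0, 1, 1, 0, 0, 0, 0, 1, 0, 1],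
    [0, 0, 0, 0, 0, 1, 1, 0, 0, 0, 0, 0, 0, 0, 0, 0, 0, 0, 0, 1, 0, 0, 0, 0, 1, 0, 0, 1],
    [0, 0, 0, 0, 0, 0, 0, 0, 0, 0, 0, 0, 0, 0, 0, 0, 0, 1, 0, 0, 1, 0, 1, 0, 1, 0, 0, 1],
    [0, 0, 0, 0, 0, 0, 0, 0, 0, 0, 0, 0, 0, 0, 0, 1, 1, 0, 1, 0, 0, 0, 0, 1, 0, 1, 0, 1],
    [0, 0, 0, 0, 0, 1, 0, 0, 0, 0, 0, 0, 0, 0, 0, 0, 0, 0, 0, 0, 0, 1, 1],
    [1, 0, 1, 1, 1, 1, 1, 0, 0, 0, 1, 0, 0, 1, 0, 0, 1, 0, 0, 0, 1, 1, 0, 0, 0, 1, 0, 1],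
    [0, 0, 0, 0, 0, 1, 0, 0, 0, 0, 0, 0, 0, 0, 0, 0, 0, 1, 0, 1, 0, 0, 0, 0, 0, 0, 0, 0, 0, 0, 0, 0, 0, 0, 0, 0, 0, 1],
    [1, 0, 1, 0, 0, 0, 1, 0, 1, 0, 1, 0, 1, 0, 0, 0, 0, 1, 0, 0, 0, 0, 1, 0, 0, 0, 0, 0, 0, 0, 0, 0, 0, 0, 0, 0, 0, 1],
    [0, 0, 0, 0, 1, 0, 1, 0, 0, 1, 0, 1, 0, 0, 1, 0, 1, 0, 1, 0, 0, 1, 0, 0, 0, 1, 1],
    [0, 0, 0, 0, 0, 0, 0, 0, 0, 0, 0, 0, 0, 0, 0, 0, 0, 0, 0, 0, 0, 0, 0, 1, 0, 0, 1, 0, 0, 0, 0, 0, 0, 0, 0, 0, 0, 0, 0, 0, 0, 0, 0, 0, 0, 0, 1],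
    [0, 0, 0, 0, 1, 0, 0, 0, 0, 1, 0, 1, 0, 0, 0, 1, 0, 0, 1, 0, 0, 0, 0, 0, 0, 0, 0, 0, 0, 0, 0, 0, 0, 0, 0, 0, 0, 0, 0, 0, 0, 0, 0, 0, 0, 0, 1],
    [0, 1, 1, 1, 0, 0, 1, 0, 0, 0, 0, 0, 1, 0, 0, 0, 0, 0, 1, 0, 1, 0, 0, 1, 0, 1, 0, 0, 0, 0, 0, 0, 0, 0, 0, 0, 0, 0, 0, 0, 0, 0, 0, 0, 0, 0, 1],
    [0, 0, 0, 0, 0, 0, 1, 0, 1, 0, 0, 0, 1, 0, 0, 1, 0, 0, 0, 1, 1, 0, 1, 0, 0, 1]]
  tgt := [
    ([], [(1, 1), (4, 1), (5, 1), (6, 1), (10, 1), (11, 1), (12, 1), (18, 1), (25, 1)]),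
    ([], [(0, 1), (2, 1), (3, 1), (5, 1), (9, 1), (13, 1), (15, 1), (23, 1), (24, 1)]),
    ([], [(0, 1), (6, 1), (10, 1), (11, 1), (14, 1), (16, 1), (17, 1), (18, 1), (19, 1), (20, 1), (22, 1), (23, 1), (25, 1)]),
    ([], []),
    ([], []),
    ([], [(2, 1), (3, 1), (7, 1), (9, 1), (14, 1), (15, 1)]),
    ([], [(2, 1), (4, 1), (5, 1), (6, 1), (9, 1), (10, 1), (11, 1), (12, 1)]),
    ([], []),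
    ([], [(2, 1), (3, 1), (6, 1), (7, 1), (9, 1), (11, 1), (14, 1), (15, 1), (16, 1), (18, 1), (19, 1), (20, 1), (21, 1), (22, 1), (23, 1)]),
    ([], []),
    ([], [(0, 1), (1, 1), (2, 1), (3, 1), (5, 1), (7, 1), (9, 1), (12, 1), (13, 1), (14, 1), (15, 1), (16, 1), (17, 1), (22, 1), (23, 1), (25, 1)]),
    ([], [(2, 1), (3, 1), (6, 1), (7, 1), (9, 1), (10, 1), (11, 1), (12, 1), (15, 1), (16, 1), (17, 1), (21, 1)]),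
    ([], [(2, 1), (4, 1), (6, 1), (9, 1), (11, 1), (13, 1), (14, 1), (16, 1), (18, 1), (19, 1), (20, 1), (21, 1), (22, 1), (23, 1), (25, 1)]),
    ([], [(2, 1), (4, 1), (10, 1), (11, 1), (14, 1), (16, 1), (18, 1), (19, 1), (20, 1), (21, 1), (22, 1), (23, 1), (25, 1)]),
    ([], [(2, 1), (4, 1), (5, 1), (6, 1), (9, 1), (10, 1), (12, 1)]),
    ([], [(5, 1), (6, 1), (8, 1), (10, 1), (11, 1), (12, 1), (13, 1), (15, 1)]),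
    ([], [(3, 1), (4, 1), (5, 1), (6, 1), (7, 1), (9, 1), (12, 1), (14, 1), (15, 1), (16, 1), (17, 1), (21, 1), (22, 1), (23, 1)]),
    ([], [(2, 1), (7, 1), (9, 1), (14, 1), (15, 1)]),
    ([], [(3, 1), (4, 1), (5, 1), (6, 1), (7, 1), (8, 1), (10, 1), (12, 1), (13, 1), (16, 1), (17, 1), (21, 1), (22, 1), (23, 1)]),
    ([], [(3, 1), (7, 1), (9, 1), (14, 1), (15, 1)]),
    ([], [(7, 1)]),
    ([], [(3, 1), (4, 1), (5, 1), (6, 1), (7, 1), (9, 1), (10, 1), (11, 1), (12, 1), (14, 1), (15, 1), (17, 1)]),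
    ([], [(2, 1), (4, 1), (5, 1), (6, 1), (10, 1), (11, 1), (12, 1)]),
    ([], [(4, 1), (7, 1), (10, 1), (13, 1), (14, 1), (16, 1)]),
    ([], [(4, 1), (5, 1), (6, 1), (8, 1), (10, 1), (11, 1), (12, 1), (13, 1), (15, 1)]),
    ([], [(4, 1), (5, 1), (6, 1), (7, 1), (8, 1), (10, 1), (11, 1), (12, 1), (14, 1), (15, 1)]),
    ([], [(2, 1), (6, 1), (7, 1), (9, 1), (12, 1), (13, 1), (14, 1), (16, 1)]),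
    ([], [(8, 1), (9, 1), (13, 1), (14, 1), (15, 1)])]

/-- Orbits inside the subgroup. -/
def orbits : List (ℕ × List (ℕ × List ℕ)) := [
    (592, [(16, [1, 3, 6]), (58, [0, 1, 2, 3, 4, 5]), (102, [0]), (138, [2, 4]), (152, [3, 4, 5, 6]), (161, [0, 1, 2]), (166, [0, 2, 3]), (178, [0, 3]), (303, [5, 6]), (321, [2, 5]), (325, [0, 2, 3, 5]), (427, [4]), (488, [5]), (582, [1, 3, 4, 5]), (592, []), (662, [1, 2, 4, 5, 6]), (663, [0, 1, 4, 5]), (666, [1, 3, 4]), (785, [0, 1, 2, 3]), (794, [1, 4]), (859, [0, 1, 2, 5, 6]), (922, [3, 5]), (934, [0, 1, 2, 3, 6]), (1041, [0, 2, 3, 4]), (1120, [1, 3, 5, 6]), (1193, [1, 2, 4]), (1228, [0, 5]), (1237, [1, 2, 3, 4, 6]), (1247, [0, 2, 3, 5, 6]), (1332, [0, 1, 3, 5]), (1397, [0, 1, 2, 6]), (1427, [2, 3, 4, 5]), (1452, [0, 3, 4, 5]), (1525, [1,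 2, 6]), (1538, [0, 1, 6]), (1548, [1, 6]), (1550, [0, 1, 2, 3, 4, 5, 6]), (1638, [0, 2, 3, 4, 5, 6]), (1687, [0, 1, 2, 5]), (1699, [1, 2, 3, 5, 6]), (1723, [1, 4, 6]), (1741, [2, 4, 5]), (1852, [0, 1, 3, 6]), (1920, [0, 1, 3, 4, 6]), (1937, [1, 4, 5]), (1939, [0, 2, 4, 5]), (1952, [2, 6]), (2039, [0, 3, 5]), (2050, [0, 2, 4, 5, 6]), (2195, [0, 1, 2, 4, 5, 6]), (2282, [4, 5]), (2314, [0, 1, 2, 3, 5, 6]), (2323, [0, 1, 2, 4, 6]), (2413, [0, 2, 4, 6]), (2472, [3, 4, 5]), (2749, [0, 2, 6]), (2768, [3]), (2808, [0, 6]), (2825, [2, 3, 4, 6]), (2836, [0, 4]), (2855, [3, 6]), (2897, [2, 3, 6]), (3023, [0, 1, 2, 4]), (3053, [0, 3, 4]), (3074, [0, 1, 2, 3, 4, 6]), (3092, [0, 4, 6]), (3111, [3, 4]), (3207, [0, 1, 5, 6]), (3279, [1, 2, 4, 6]), (3353, [1, 2]), (3432, [0, 1, 5]), (3469, [0,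 4, 5, 6]), (3524, [4, 5, 6]), (3651, [0, 5, 6]), (3671, [1, 3]), (3758, [1, 3, 4, 5, 6]), (3775, [0, 1, 4, 5, 6]), (3778, [0, 1, 2, 4, 5]), (3822, [0, 3, 4, 5, 6]), (3873, [0, 1, 3]), (3921, [1, 2, 3]), (3931, [1, 4, 5, 6]), (3954, [1]), (3993, [1, 5, 6]), (4209, [1, 3, 5]), (4269, [0, 2, 5]), (4460, [0, 1, 3, 4]), (4534, [2, 4, 5, 6]), (4564, [0, 3, 6]), (4588, [0, 4, 5]), (4595, [0, 1, 3, 4, 5, 6]), (4697, [1, 2, 5, 6]), (4728, [1, 2, 3, 4, 5]), (4784, [4, 6]), (4821, [3, 5, 6]), (4889, [0, 1, 4, 6]), (4961, [0, 1, 2, 3, 5]), (4993, [1, 2, 3, 6]), (5006, [0, 3, 4, 6]), (5016, [2, 3, 4]), (5025, [6]), (5092, [0, 2, 3, 4, 6]), (5133, [2, 4, 6]), (5141, [0, 2, 3, 4, 5]), (5164, [0, 3, 5, 6]), (5184, [1, 2, 3, 4]), (5204, [1, 2, 5]), (5225, [0, 2, 5, 6]), (5260, [0, 2, 3, 6]),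 (5275, [2, 3, 5, 6]), (5339, [3, 4, 6]), (5340, [2, 3]), (5366, [1, 5]), (5448, [0, 2, 4]), (5490, [0, 1, 2, 3, 4]), (5519, [0, 1, 3, 5, 6]), (5521, [1, 2, 3, 5]), (5560, [2, 3, 4, 5, 6]), (5616, [2]), (5640, [0, 1, 4]), (5660, [0, 2]), (5684, [0, 1]), (5703, [2, 3, 5]), (5782, [1, 2, 4, 5]), (5857, [1, 2, 3, 4, 5, 6]), (5914, [1, 3, 4, 6]), (6126, [2, 5, 6]), (6142, [0, 1, 3, 4, 5])])]

theorem ident_ok : identOK CfsgLib.Spor.J3.ActJ.act cert sw gw CfsgLib.Spor.JThreeOut.levZ = true := by decide +kernel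

theorem sub_ok : subChainOK CfsgLib.Spor.J3.ActJ.act sw [] orbits = true := by decide +kernel

theorem shape_ok : cert.shapeOK = true := by decide +kernel

theorem lin_ok : cert.linOK = true := by decide +kernel

theorem prod_ok : cert.p ^ cert.m ≤ (orbits.map fun e => e.2.length).prod := by decide +kernel

end CfsgLib.Spor.JThreeMult.P2
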